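import Mathlib
import Cfsg.Agent.Helper2.PSLM.Defs
import Cfsg.Agent.Helper2.Stb.CExt
import Cfsg.Agent.Helper2.StPerfA
import Cfsg.Agent.Helper2.Stein.Tab

set_option autoImplicit false
set_option linter.unusedSectionVars false
set_option linter.unusedVariables false

/-! S2400 (universal Steinberg groups of types E₆, E₇, B₂, D₄ are centrally closed): shared
definitions.  Type B₂ is treated on the "circle": the eight roots are `ρ_k`, `k : ZMod 8`, at angle
`k · 45°`; `ρ_k` is short for even `k`, long for odd `k`. -/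

namespace Cfsg.Agent.S2400P

open scoped commutatorElement
open Cfsg.Lie Cfsg.Agent.Helper2.Stb Cfsg.Agent.Helper2.StPerf Cfsg.Agent.Helper2.Stein
open Cfsg.Agent.S2086P (CL cl map_cl cl_eq commute_comm CL_of_comm)

/-- `ρ_k` is a short root -/
def IsS (k : ZMod 8) : Prop := k.val % 2 = 0

/-- `ρ_k` is a long root -/
def IsL (k : ZMod 8) : Prop := k.val % 2 = 1

instance (k : ZMod 8) : Decidable (IsS k) := by unfold IsS; infer_instance
instance (k : ZMod 8) : Decidable (IsL k) := by unfold IsL; infer_instance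

/-- Cartan integers of `B₂` on the circle: `cA k j = ⟨ρ_j, ρ_k^∨⟩`, the exponent with which the
torus element `h_{ρ_k}(v)` acts on the root subgroup `ρ_j` -/
def cA (k j : ZMod 8) : ℤ :=
  if k.val % 2 = 0 then
    match (j - k).val with
    | 0 => 2 | 1 => 2 | 2 => 0 | 3 => -2 | 4 => -2 | 5 => -2 | 6 => 0 | _ => 2
  else
    match (j - k).val with
    | 0 => 2 | 1 => 1 | 2 => 0 | 3 => -1 | 4 => -2 | 5 => -1 | 6 => 0 | _ => 1

/-- the relations of type `B₂` on the circle for a family `X` of root elements, with signs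
`e1 e2 e3` (functions of the short root `k` and the direction `s = ±1`) -/
structure Circ {K : Type*} [Field K] {M : Type*} [Group M] (e1 e2 e3 : ZMod 8 → ZMod 8 → K)
    (X : ZMod 8 → K → M) : Prop where
  add : ∀ k t u, X k t * X k u = X k (t + u)
  comm45 : ∀ k t u, Commute (X k t) (X (k + 1) u)
  commLL : ∀ l, IsL l → ∀ t u, Commute (X l t) (X (l + 2) u)
  relII : ∀ k, IsS k → ∀ s : ZMod 8, s = 1 ∨ s = -1 → ∀ t u,
    ⁅X k t, X (k + 2 * s) u⁆ = X (k + s) (2 * e3 k s * t * u)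
  relI : ∀ k, IsS k → ∀ s : ZMod 8, s = 1 ∨ s = -1 → ∀ t u,
    ⁅X k t, X (k + 3 * s) u⁆ = X (k + 2 * s) (e1 k s * t * u) * X (k + s) (e2 k s * t ^ 2 * u)

/-- a group with root elements and torus elements of type `B₂` (on the circle) -/
structure B2C (K : Type*) [Field K] (G : Type*) [Group G] where
  X : ZMod 8 → K → G
  H : ZMod 8 → K → G
  e1 : ZMod 8 → ZMod 8 → K
  e2 : ZMod 8 → ZMod 8 → K
  e3 : ZMod 8 → ZMod 8 → K
  e1_sq : ∀ k s, e1 k s * e1 k s = 1
  e2_sq : ∀ k s, e2 k s * e2 k s = 1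
  e3_sq : ∀ k s, e3 k s * e3 k s = 1
  e213 : ∀ k s, e2 k s = e1 k s * e3 k s
  e3_anti : ∀ k, IsS k → e3 (k + 2) (-1) = - e3 k 1
  circ : Circ e1 e2 e3 X
  conj : ∀ k v, v ≠ 0 → ∀ j t, H k v * X j t * (H k v)⁻¹ = X j (v ^ (cA k j) * t)
  hcomm : ∀ k v k' v', v ≠ 0 → v' ≠ 0 → Commute (H k v) (H k' v')

variable {K : Type*} [Field K] {G : Type*} [Group G] {E : Type*} [Group E]

/-- all lifts of elements of the root subgroups `ρ_k`, `ρ_j` commute -/
def CLr (S : B2C K G) (ψ : E →* G) (k j : ZMod 8) : Prop :=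
  ∀ t u, CL ψ (S.X k t) (S.X j u)

theorem CLr.symm {S : B2C K G} {ψ : E →* G} {k j : ZMod 8} (h : CLr S ψ k j) : CLr S ψ j k :=
  fun t u => (h u t).symm

/-- all commuting root subgroups have commuting lifts -/
structure C2all (S : B2C K G) (ψ : E →* G) : Prop where
  same : ∀ k, CLr S ψ k k
  c45 : ∀ k, CLr S ψ k (k + 1)
  cLL : ∀ l, IsL l → CLr S ψ l (l + 2)

/-- a torus-equivariant additive family of lifts of the root elements -/
structure Lift (S : B2C K G) (ψ : E →* G) (Y : ZMod 8 → K → E) : Prop where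
  map : ∀ k t, ψ (Y k t) = S.X k t
  add : ∀ k t u, Y k t * Y k u = Y k (t + u)
  conj : ∀ (g : E) (j : ZMod 8) (w : K), w ≠ 0 → ψ g = S.H j w →
    ∀ k t, g * Y k t * g⁻¹ = Y k (w ^ (cA j k) * t)

/-- a torus-equivariant additive family of lifts of the short root elements -/
structure LiftS (S : B2C K G) (ψ : E →* G) (Y : ZMod 8 → K → E) : Prop where
  map : ∀ k, IsS k → ∀ t, ψ (Y k t) = S.X k t
  add : ∀ k, IsS k → ∀ t u, Y k t * Y k u = Y k (t + u)
  conj : ∀ (g : E) (j : ZMod 8) (w : K), w ≠ 0 → ψ g = S.H j w →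
    ∀ k, IsS k → ∀ t, g * Y k t * g⁻¹ = Y k (w ^ (cA j k) * t)

/-- the section over the root subgroup `ρ_k` defined by the torus element `h_{ρ_i}(v)` -/
noncomputable def secT (S : B2C K G) (ψ : E →* G) (hψ : Function.Surjective ψ) (i k : ZMod 8)
    (v : K) (t : K) : E :=
  cl ψ hψ (S.H i v) (S.X k (t / (v ^ (cA i k) - 1)))

/-- the section over the long root subgroup `ρ_l` defined by commutators of sections over the
two adjacent short root subgroups -/
noncomputable def secQ (S : B2C K G) (Ys : ZMod 8 → K → E) (l : ZMod 8) (w : K) : E :=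
  ⁅Ys (l - 1) (w / (2 * S.e3 (l - 1) 1)), Ys (l + 1) 1⁆

/-- the Prelude index of the root `ρ_k` (type `B₂`: `5 = a` short, `4 = b` long, `6 = a + b`,
`7 = 2a + b`, and `r ↦ 7 - r` is `r ↦ -r`) -/
def kap (k : ZMod 8) : ℕ :=
  match k.val with
  | 0 => 5 | 1 => 7 | 2 => 6 | 3 => 4 | 4 => 2 | 5 => 0 | 6 => 1 | _ => 3

/-- the inverse of `kap` -/
def kapInv (r : ℕ) : ZMod 8 :=
  match r with
  | 5 => 0 | 7 => 1 | 6 => 2 | 4 => 3 | 2 => 4 | 0 => 5 | 1 => 6 | _ => 7

/-- the signs of the Prelude's relations of type `B₂`, on the circle -/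
def E1 (k s : ZMod 8) : ℤ :=
  match k.val, s.val with
  | 0, _ => -1 | 2, 7 => -1 | 6, 1 => -1 | _, _ => 1

/-- the signs of the Prelude's relations of type `B₂`, on the circle -/
def E3 (k s : ZMod 8) : ℤ :=
  match k.val, s.val with
  | 2, 7 => -1 | 4, _ => -1 | 6, 1 => -1 | _, _ => 1

/-- the signs of the Prelude's relations of type `B₂`, on the circle -/
def E2 (k s : ZMod 8) : ℤ := E1 k s * E3 k s

theorem kapInv_kap (k : ZMod 8) : kapInv (kap k) = k := by revert k; decide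

theorem kap_lt (k : ZMod 8) : kap k < 8 := by revert k; decide

theorem kap_kapInv {r : ℕ} (hr : r < 8) : kap (kapInv r) = r := by
  interval_cases r <;> rfl

/-- an `A₃`-subsystem with signs: `rho i j` is the root index of `e_i - e_j`, `eps i j` its sign -/
def EmbOK (n : ℕ) (ce : ℕ → ℕ → List (ℕ × ℤ)) (ng : ℕ → ℕ) (rho : Fin 4 → Fin 4 → ℕ)
    (eps : Fin 4 → Fin 4 → ℤ) : Prop :=
  (∀ i j, i ≠ j → rho i j < n ∧ (eps i j = 1 ∨ eps i j = -1)) ∧
  (∀ i j k l, i ≠ j → k ≠ l → j ≠ k → i ≠ l → CmT n ce ng (rho i j) (rho k l)) ∧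
  (∀ i j l, i ≠ j → j ≠ l → i ≠ l →
    SmT n ce ng (rho i j) (rho j l) (rho i l) (eps i j * eps j l * eps i l))

instance (n : ℕ) (ce : ℕ → ℕ → List (ℕ × ℤ)) (ng : ℕ → ℕ) (rho : Fin 4 → Fin 4 → ℕ)
    (eps : Fin 4 → Fin 4 → ℤ) : Decidable (EmbOK n ce ng rho eps) := by
  unfold EmbOK SmT
  exact @instDecidableAnd _ _ inferInstance (@instDecidableAnd _ _ inferInstance inferInstance)

end Cfsg.Agent.S2400P
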