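import Mathlib
import Cfsg.Agent.Helper2.S2400.Defs
import Cfsg.Agent.Helper21.S2400TOR
import Cfsg.Agent.Helper15.S2400SAMEL
import Cfsg.Agent.Helper15.S2400SAMESA
import Cfsg.Agent.Helper15.S2400SAMESD
import Cfsg.Agent.Helper3.S2400LLODD
import Cfsg.Agent.Helper21.S2400SECS
import Cfsg.Agent.Helper3.S2400SECQA
import Cfsg.Agent.Helper19.S2400SECQB
import Cfsg.Agent.Helper26.S2400REL2
import Cfsg.Agent.Helper26.S2400REL1

set_option autoImplicit false
set_option linter.unusedSectionVars false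
set_option linter.unusedVariables false

/-! S2400, type B₂: assembly of the pieces.  Every central extension of a group with root and
torus elements of type `B₂` over a finite field with at least three elements splits over the root
elements, compatibly with the relations. -/

namespace Cfsg.Agent.S2400P

open scoped commutatorElement
open Cfsg.Lie Cfsg.Agent.Helper2.Stb Cfsg.Agent.Helper2.StPerf
open Cfsg.Agent.S2086P (CL cl map_cl cl_eq commute_comm CL_of_comm)

variable {K : Type*} [Field K] {G : Type*} [Group G] {E : Type*} [Group E]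

theorem cA_succ_of_short : ∀ k : ZMod 8, IsS k → cA (k + 1) k = 1 := by decide

theorem cA_self : ∀ k : ZMod 8, cA k k = 2 := by decide

theorem isS_or_isL (k : ZMod 8) : IsS k ∨ IsL k := by
  unfold IsS IsL; omega

theorem not_isS_of_isL {k : ZMod 8} (h : IsL k) : ¬ IsS k := by
  unfold IsS IsL at *; omega

theorem isL_add_of_isS : ∀ k : ZMod 8, IsS k → ∀ s : ZMod 8, s = 1 ∨ s = -1 → IsL (k + s) := by
  decide

theorem isS_add_two_of_isS : ∀ k : ZMod 8, IsS k → ∀ s : ZMod 8, s = 1 ∨ s = -1 →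
    IsS (k + 2 * s) := by
  decide

theorem isL_add_three_of_isS : ∀ k : ZMod 8, IsS k → ∀ s : ZMod 8, s = 1 ∨ s = -1 →
    IsL (k + 3 * s) := by
  decide

/-- from commuting lifts and a family of lifts satisfying the two commutator relations to the
relations on the circle -/
theorem circ_of_lift (S : B2C K G) (ψ : E →* G) {Y : ZMod 8 → K → E} (hY : Lift S ψ Y)
    (h45 : ∀ k, CLr S ψ k (k + 1)) (hLL : ∀ l, IsL l → CLr S ψ l (l + 2))
    (hII : ∀ k, IsS k → ∀ s : ZMod 8, s = 1 ∨ s = -1 → ∀ t u,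
      ⁅Y k t, Y (k + 2 * s) u⁆ = Y (k + s) (2 * S.e3 k s * t * u))
    (hI : ∀ k, IsS k → ∀ s : ZMod 8, s = 1 ∨ s = -1 → ∀ t u,
      ⁅Y k t, Y (k + 3 * s) u⁆ =
        Y (k + 2 * s) (S.e1 k s * t * u) * Y (k + s) (S.e2 k s * t ^ 2 * u)) :
    Circ S.e1 S.e2 S.e3 Y :=
  ⟨hY.add, fun k t u => h45 k t u _ _ (hY.map k t) (hY.map (k + 1) u),
    fun l hl t u => hLL l hl t u _ _ (hY.map l t) (hY.map (l + 2) u), hII, hI⟩

theorem exists_sq_ne_one [Fintype K] (hK : 4 ≤ Fintype.card K) : ∃ v : K, v ≠ 0 ∧ v ^ 2 ≠ 1 := by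
  classical
  by_contra hcon
  push Not at hcon
  have hsub : (Finset.univ : Finset K) ⊆ {0, 1, -1} := by
    intro v _
    by_cases hv : v = 0
    · simp [hv]
    · have h1 := hcon v hv
      have h2 : (v - 1) * (v + 1) = 0 := by ring_nf; rw [h1]; ring
      rcases mul_eq_zero.1 h2 with h | h
      · have : v = 1 := by linear_combination h
        simp [this]
      · have : v = -1 := by linear_combination h
        simp [this]
  have := Finset.card_le_card hsub
  have h3 : ({0, 1, -1} : Finset K).card ≤ 3 := Finset.card_le_three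
  rw [Finset.card_univ] at this
  omega

theorem two_eq_zero_of_card_four [Fintype K] (h4 : Fintype.card K = 4) : (2 : K) = 0 := by
  have h := Nat.cast_card_eq_zero K
  rw [h4] at h
  have e : (2 : K) * 2 = 0 := by
    have : ((4 : ℕ) : K) = 2 * 2 := by norm_num
    rw [← this]; exact h
  rcases mul_eq_zero.1 e with h | h <;> exact h

theorem two_ne_zero_of_card_three [Fintype K] (h3 : Fintype.card K = 3) : (2 : K) ≠ 0 := by
  intro h2
  have h := Nat.cast_card_eq_zero K
  rw [h3] at h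
  have : (1 : K) = 0 := by
    have e : ((3 : ℕ) : K) = 2 + 1 := by norm_num
    rw [e, h2, zero_add] at h
    exact h
  exact one_ne_zero this

/-- the regime `|K| ≥ 4`: all sections are defined by torus elements -/
theorem b2_lift_of_four [Fintype K] (hK : 4 ≤ Fintype.card K) (S : B2C K G) (ψ : E →* G)
    (hψ : Function.Surjective ψ) (hc : ψ.ker ≤ Subgroup.center E) :
    ∃ Y : ZMod 8 → K → E, (∀ k t, ψ (Y k t) = S.X k t) ∧ Circ S.e1 S.e2 S.e3 Y := by
  classical
  obtain ⟨v, hv0, hv2⟩ := exists_sq_ne_one hK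
  have hv1 : v ≠ 1 := by
    intro h; apply hv2; rw [h]; ring
  have h45 := clr_45 S ψ hψ hc hv0 hv1
  have hLs := clr_same_long S ψ hψ hc h45
  have hSs : ∀ k, IsS k → CLr S ψ k k := by
    by_cases h2 : (2 : K) = 0
    · exact clr_same_short_of_two S ψ hψ hc h2 h45
    · have h5 : 5 ≤ Fintype.card K := by
        rcases Nat.lt_or_ge 4 (Fintype.card K) with h | h
        · exact h
        · exact absurd (two_eq_zero_of_card_four (le_antisymm h hK)) h2
      obtain ⟨d, hd0, hd1, hd⟩ := exists_stepA_scalar (K := K)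
        ⟨Finset.univ, by rw [Finset.card_univ]; omega⟩
      exact clr_same_short_of_scalar S ψ hψ hc hd0 hd1 hd
  have hsame : ∀ k, CLr S ψ k k := by
    intro k
    rcases isS_or_isL k with h | h
    · exact hSs k h
    · exact hLs k h
  have hLL := clr_LL_of_sq S ψ hψ hc hv0 hv2
  have hneS : ∀ k, IsS k → v ^ (cA (k + 1) k) ≠ 1 := by
    intro k hk
    rw [cA_succ_of_short k hk, zpow_one]
    exact hv1
  have hneL : ∀ k, v ^ (cA k k) ≠ 1 := by
    intro k
    rw [cA_self]
    exact_mod_cast hv2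
  obtain ⟨Y, hYdef⟩ : ∃ Y : ZMod 8 → K → E, Y = fun k t =>
      if IsS k then secT S ψ hψ (k + 1) k v t else secT S ψ hψ k k v t := ⟨_, rfl⟩
  have hYS : ∀ k, IsS k → Y k = secT S ψ hψ (k + 1) k v := by
    intro k hk; rw [hYdef]; funext t; simp only [if_pos hk]
  have hYL : ∀ k, ¬ IsS k → Y k = secT S ψ hψ k k v := by
    intro k hk; rw [hYdef]; funext t; simp only [if_neg hk]
  have hY : Lift S ψ Y := by
    refine ⟨?_, ?_, ?_⟩
    · intro k t
      by_cases hk : IsS k
      · rw [hYS k hk]; exact map_secT S ψ hψ hv0 (hneS k hk) t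
      · rw [hYL k hk]; exact map_secT S ψ hψ hv0 (hneL k) t
    · intro k t u
      by_cases hk : IsS k
      · rw [hYS k hk]; exact (secT_add S ψ hψ hc hv0 (hneS k hk) (hsame k) t u).symm
      · rw [hYL k hk]; exact (secT_add S ψ hψ hc hv0 (hneL k) (hsame k) t u).symm
    · intro g j w hw hg k t
      by_cases hk : IsS k
      · rw [hYS k hk]; exact secT_conj S ψ hψ hc hv0 hw hg t
      · rw [hYL k hk]; exact secT_conj S ψ hψ hc hv0 hw hg t
  have hII := relII_of_sq S ψ hψ hc hv0 hv2 hY h45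
  have hI := relI_of_relII S ψ hψ hc hv0 hv1 hY h45 hII
  exact ⟨Y, hY.map, circ_of_lift S ψ hY h45 hLL hII hI⟩

/-- the regime `|K| = 3`: the sections over the long root subgroups are commutators -/
theorem b2_lift_of_three [Fintype K] (h3 : Fintype.card K = 3) (S : B2C K G) (ψ : E →* G)
    (hψ : Function.Surjective ψ) (hc : ψ.ker ≤ Subgroup.center E) :
    ∃ Y : ZMod 8 → K → E, (∀ k t, ψ (Y k t) = S.X k t) ∧ Circ S.e1 S.e2 S.e3 Y := by
  classical
  have h2 : (2 : K) ≠ 0 := two_ne_zero_of_card_three h3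
  have hv0 : (-1 : K) ≠ 0 := neg_ne_zero.2 one_ne_zero
  have hv1 : (-1 : K) ≠ 1 := by
    intro h
    apply h2
    have : (2 : K) = 1 - (-1) := by ring
    rw [this, h]; ring
  have h45 := clr_45 S ψ hψ hc hv0 hv1
  have hsame := clr_same_of_card_three S ψ hψ hc h3
  have hLL := clr_LL_of_odd S ψ hψ hc h2 hsame h45
  have hneS : ∀ k, IsS k → (-1 : K) ^ (cA (k + 1) k) ≠ 1 := by
    intro k hk
    rw [cA_succ_of_short k hk, zpow_one]
    exact hv1
  obtain ⟨Ys, hYsdef⟩ : ∃ Ys : ZMod 8 → K → E, Ys = fun k t =>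
      secT S ψ hψ (k + 1) k (-1) t := ⟨_, rfl⟩
  have hYs : LiftS S ψ Ys := by
    refine ⟨?_, ?_, ?_⟩
    · intro k hk t
      rw [hYsdef]; exact map_secT S ψ hψ hv0 (hneS k hk) t
    · intro k hk t u
      rw [hYsdef]; exact (secT_add S ψ hψ hc hv0 (hneS k hk) (hsame k) t u).symm
    · intro g j w hw hg k hk t
      rw [hYsdef]; exact secT_conj S ψ hψ hc hv0 hw hg t
  obtain ⟨Y, hYdef⟩ : ∃ Y : ZMod 8 → K → E, Y = fun k t =>
      if IsS k then Ys k t else secQ S Ys k t := ⟨_, rfl⟩
  have hYS : ∀ k, IsS k → Y k = Ys k := by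
    intro k hk; rw [hYdef]; funext t; simp only [if_pos hk]
  have hYL : ∀ k, IsL k → Y k = secQ S Ys k := by
    intro k hk; rw [hYdef]; funext t; simp only [if_neg (not_isS_of_isL hk)]
  have hY : Lift S ψ Y := by
    refine ⟨?_, ?_, ?_⟩
    · intro k t
      rcases isS_or_isL k with hk | hk
      · rw [hYS k hk]; exact hYs.map k hk t
      · rw [hYL k hk]; exact map_secQ S ψ h2 hYs k hk t
    · intro k t u
      rcases isS_or_isL k with hk | hk
      · rw [hYS k hk]; exact hYs.add k hk t u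
      · rw [hYL k hk]; exact (secQ_add S ψ hψ hc h2 hYs h45 k hk t u).symm
    · intro g j w hw hg k t
      rcases isS_or_isL k with hk | hk
      · rw [hYS k hk]; exact hYs.conj g j w hw hg k hk t
      · rw [hYL k hk]; exact secQ_conj S ψ hψ hc h3 hYs h45 k hk hw hg t
  have hII : ∀ k, IsS k → ∀ s : ZMod 8, s = 1 ∨ s = -1 → ∀ t u,
      ⁅Y k t, Y (k + 2 * s) u⁆ = Y (k + s) (2 * S.e3 k s * t * u) := by
    intro k hk s hs t u
    rw [hYS k hk, hYS _ (isS_add_two_of_isS k hk s hs), hYL _ (isL_add_of_isS k hk s hs)]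
    exact secQ_relII S ψ hψ hc h3 hYs h45 k hk s hs t u
  have hI := relI_of_relII S ψ hψ hc hv0 hv1 hY h45 hII
  exact ⟨Y, hY.map, circ_of_lift S ψ hY h45 hLL hII hI⟩

/-- type `B₂`: central extensions split over the root elements, compatibly with the relations -/
theorem b2_lift [Fintype K] (hK : 3 ≤ Fintype.card K) (S : B2C K G) (ψ : E →* G)
    (hψ : Function.Surjective ψ) (hc : ψ.ker ≤ Subgroup.center E) :
    ∃ Y : ZMod 8 → K → E, (∀ k t, ψ (Y k t) = S.X k t) ∧ Circ S.e1 S.e2 S.e3 Y := by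
  rcases Nat.lt_or_ge 3 (Fintype.card K) with h | h
  · exact b2_lift_of_four h S ψ hψ hc
  · exact b2_lift_of_three (le_antisymm h hK) S ψ hψ hc

end Cfsg.Agent.S2400P
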