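import Mathlib
import Cfsg.Agent.Helper2.Stein.Tab
import Cfsg.Agent.Helper2.S2400.Abs2

set_option autoImplicit false
set_option linter.unusedSectionVars false
set_option linter.unusedSimpArgs false
set_option linter.unusedVariables false

/-! Central extensions of simply-laced Steinberg groups: the decidable checks of
`Helper2/Stein/Tab.lean` with orthogonal pairs of roots allowed (type `D₄`). -/

namespace Cfsg.Agent.Helper2.Stein2

open Cfsg.Agent.Helper2.Stein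

section tab

variable (n : ℕ) (ce : ℕ → ℕ → List (ℕ × ℤ)) (ng : ℕ → ℕ) (d1 d2 : ℕ → ℕ) (w : ℕ → ℕ → ℕ)

/-- the roots `a`, `b` are orthogonal: neither `a + b` nor `a - b` is a root, and `a ≠ ±b` -/
def OrT (a b : ℕ) : Prop := a < n ∧ b < n ∧ a ≠ b ∧ a ≠ ng b ∧ ce b a = [] ∧ ce (ng b) a = []

instance (a b : ℕ) : Decidable (OrT n ce ng a b) := by unfold OrT; infer_instance

/-- a commuting pair has a decomposition or is orthogonal -/
def CmPart2 (r s : ℕ) : Prop :=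
  CmT n ce ng r s →
    ((∃ p ∈ (smF n ce ng (w r s) (lm ce ng r (w r s))).toList, p.1 = r) ∧
      CmT n ce ng (w r s) s ∧ CmT n ce ng (lm ce ng r (w r s)) s) ∨ OrT n ce ng r s

instance (r s : ℕ) : Decidable (CmPart2 n ce ng w r s) := by unfold CmPart2; infer_instance

/-- all the checks for the pairs `(r, s)`, `s < n`: commuting pairs have a decomposition or are
orthogonal -/
def RowOK2 (r : ℕ) : Prop :=
  ∀ s < n, ((ce r s).length ≤ 1 ∧ ∀ p ∈ ce r s, p.1 < n ∧ (p.2 = 1 ∨ p.2 = -1)) ∧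
    CmPart2 n ce ng w r s ∧
    ∀ p ∈ (smF n ce ng r s).toList,
      smF n ce ng s r = some (p.1, -p.2) ∧ CmT n ce ng p.1 s ∧
      ((r = d1 p.1 ∧ s = d2 p.1 ∧ p.2 = eps0 n ce ng d1 d2 p.1) ∨
      (s = d1 p.1 ∧ r = d2 p.1 ∧ -p.2 = eps0 n ce ng d1 d2 p.1) ∨
      ChP n ce ng r (lm ce ng (d1 p.1) r) (d2 p.1) (d1 p.1) s p.1 (eps0 n ce ng d1 d2 p.1) p.2 ∨
      ChP n ce ng s (lm ce ng (d1 p.1) s) (d2 p.1) (d1 p.1) r p.1 (eps0 n ce ng d1 d2 p.1) (-p.2))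

instance (r : ℕ) : Decidable (RowOK2 n ce ng d1 d2 w r) := by unfold RowOK2; infer_instance

/-- commuting pairs have a decomposition or are orthogonal -/
def ChkCmDec2 : Prop := ∀ r < n, ∀ s < n, CmT n ce ng r s →
  (∃ a < n, (∃ p ∈ (smF n ce ng a (lm ce ng r a)).toList, p.1 = r) ∧ CmT n ce ng a s ∧
    CmT n ce ng (lm ce ng r a) s) ∨ OrT n ce ng r s

variable {n ce ng d1 d2 w}

theorem chks_of_rows2 (h : ∀ r < n, RowOK2 n ce ng d1 d2 w r) :
    ChkShort n ce ∧ ChkSymm n ce ng ∧ ChkCmDec2 n ce ng ∧ ChkSmCm n ce ng ∧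
      ChkLink n ce ng d1 d2 := by
  refine ⟨?_, ?_, ?_, ?_, ?_⟩
  · intro r hr s hs
    exact (h r hr s hs).1
  · intro r hr s hs p hp
    exact ((h r hr s hs).2.2 p hp).1
  · intro r hr s hs hc
    rcases (h r hr s hs).2.1 hc with ⟨a1, a2, a3⟩ | h'
    · exact Or.inl ⟨w r s, a2.1, a1, a2, a3⟩
    · exact Or.inr h'
  · intro r hr s hs p hp
    exact ((h r hr s hs).2.2 p hp).2.1
  · intro r hr s hs p hp
    exact ((h r hr s hs).2.2 p hp).2.2

/-- the checks give the combinatorial hypotheses -/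
theorem sys2_of_chk (h1 : ChkSymm n ce ng) (h3 : ChkSmCm n ce ng)
    (h4 : ChkDec n ce ng d1 d2) (h5 : ChkLink n ce ng d1 d2) (h6 : ChkDecCh n ce ng d1 d2) :
    Sys2 n (CmT n ce ng) (SmT n ce ng) (decT n ce ng d1 d2) := by
  have hdec : ∀ k < n, SmT n ce ng (d1 k) (d2 k) k (eps0 n ce ng d1 d2 k) := by
    intro k hk
    obtain ⟨p, hp, rfl⟩ := h4 k hk
    rw [mem_toList_iff] at hp
    unfold SmT eps0
    rw [hp]
    rfl
  refine ⟨?_, ?_, ?_, hdec, ?_, ?_⟩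
  · intro r s k ε h
    obtain ⟨a1, a2, a3, a4, _⟩ := smT_lt h
    exact ⟨a1, a2, a3, a4⟩
  · intro r s k ε h
    obtain ⟨a1, a2, _⟩ := smT_lt h
    exact h1 r a1 s a2 (k, ε) (mem_toList_iff.2 h)
  · intro r s k ε h
    obtain ⟨a1, a2, a3, _⟩ := smT_lt h
    exact ⟨h3 r a1 s a2 (k, ε) (mem_toList_iff.2 h), a3, a3, Or.inl rfl⟩
  · intro r s k ε h
    obtain ⟨a1, a2, a3, _⟩ := smT_lt h
    rcases h5 r a1 s a2 (k, ε) (mem_toList_iff.2 h) with c | c | c | c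
    · exact Or.inl c
    · exact Or.inr (Or.inl c)
    · obtain ⟨ε1, ε2, hc⟩ := ch_of_chP c
      exact Or.inr (Or.inr (Or.inl ⟨_, ε1, ε2, hc⟩))
    · obtain ⟨ε1, ε2, hc⟩ := ch_of_chP c
      exact Or.inr (Or.inr (Or.inr ⟨_, ε1, ε2, hc⟩))
  · intro k hk
    obtain ⟨a, _, e2, _, e4, _, c⟩ := h6 k hk
    obtain ⟨ε1, ε2, hc⟩ := ch_of_chP c
    exact ⟨a, _, e2.1, ε1, ε2, e4.2, hc⟩

end tab

end Cfsg.Agent.Helper2.Stein2
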