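import Mathlib
import Cfsg.Prelude.Def_ChevD4
import Cfsg.Prelude.Def_ChevStructure
import Cfsg.Agent.Helper2.S2400.Tab2
import Cfsg.Agent.Helper2.S2400.Defs

set_option autoImplicit false

/-! Central extensions of the Steinberg group of type `D₄`: the table checks, and `A₃`-subsystems
containing the orthogonal pairs of roots. -/

namespace Cfsg.Agent.Helper2.Stein2

open Cfsg.Lie Cfsg.Agent.Helper2.Stein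
open Cfsg.Agent.S2400P (EmbOK)

/-- first summands of the chosen decompositions of the roots (type D4) -/
def d1_D4 (k : ℕ) : ℕ :=
  ([1, 0, 0, 0, 0, 1, 0, 0, 0, 0, 1, 1, 2, 3, 1, 2, 3, 4, 6, 6, 7, 8, 9, 14] : List ℕ).getD k 0

/-- second summands of the chosen decompositions of the roots (type D4) -/
def d2_D4 (k : ℕ) : ℕ :=
  ([9, 14, 15, 16, 17, 17, 19, 20, 21, 22, 20, 21, 22, 22, 23, 23, 23, 23, 22, 23, 23, 23, 23, 22] : List ℕ).getD k 0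

/-- for commuting, not orthogonal roots `r`, `s` a root `a` with `a`, `r - a` commuting with `s` -/
def w_D4 (r s : ℕ) : ℕ :=
  ((([[1, 2, 1, 1, 1, 0, 1, 1, 1, 2, 0, 0, 0, 0, 0, 0, 0, 0, 0, 0, 0, 0, 0, 0],
  [2, 0, 0, 0, 0, 0, 0, 0, 0, 0, 0, 0, 0, 0, 2, 0, 0, 0, 0, 0, 0, 0, 0, 0],
  [1, 0, 0, 0, 0, 0, 0, 0, 0, 0, 0, 0, 0, 0, 0, 1, 0, 0, 0, 0, 0, 0, 0, 0],
  [1, 0, 0, 0, 0, 0, 0, 0, 0, 0, 0, 0, 0, 0, 0, 0, 1, 0, 0, 0, 0, 0, 0, 0],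
  [2, 0, 0, 0, 0, 0, 0, 0, 0, 0, 0, 0, 0, 0, 0, 0, 0, 2, 0, 0, 0, 0, 0, 0],
  [0, 2, 1, 1, 1, 1, 0, 0, 0, 0, 0, 0, 0, 0, 1, 1, 1, 2, 0, 0, 0, 0, 0, 0],
  [1, 0, 0, 0, 0, 0, 0, 0, 0, 0, 0, 0, 0, 0, 0, 0, 0, 0, 0, 1, 0, 0, 0, 0],
  [2, 0, 0, 0, 0, 0, 0, 0, 0, 0, 0, 0, 0, 0, 0, 0, 0, 0, 0, 0, 2, 0, 0, 0],
  [3, 0, 0, 0, 0, 0, 0, 0, 0, 0, 0, 0, 0, 0, 0, 0, 0, 0, 0, 0, 0, 3, 0, 0],
  [4, 0, 0, 0, 0, 0, 0, 0, 0, 0, 0, 0, 0, 0, 0, 0, 0, 0, 0, 0, 0, 0, 4, 0],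
  [0, 2, 1, 0, 0, 0, 1, 1, 0, 0, 1, 0, 0, 0, 1, 1, 0, 0, 0, 1, 2, 0, 0, 0],
  [0, 3, 0, 1, 0, 0, 1, 0, 1, 0, 0, 1, 0, 0, 1, 0, 1, 0, 0, 1, 0, 3, 0, 0],
  [0, 0, 4, 0, 2, 0, 0, 2, 0, 2, 0, 0, 2, 0, 0, 2, 0, 2, 0, 0, 2, 0, 4, 0],
  [0, 0, 0, 4, 3, 0, 0, 0, 3, 3, 0, 0, 0, 3, 0, 0, 3, 3, 0, 0, 0, 3, 4, 0],
  [0, 5, 0, 0, 0, 1, 0, 0, 0, 0, 1, 1, 0, 0, 1, 1, 1, 0, 0, 1, 0, 0, 0, 5],
  [0, 0, 5, 0, 0, 2, 0, 0, 0, 0, 2, 0, 2, 0, 2, 2, 0, 2, 0, 0, 2, 0, 0, 5],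
  [0, 0, 0, 5, 0, 3, 0, 0, 0, 0, 0, 3, 0, 3, 3, 0, 3, 3, 0, 0, 0, 3, 0, 5],
  [0, 0, 0, 0, 5, 4, 0, 0, 0, 0, 0, 0, 4, 4, 0, 4, 4, 4, 0, 0, 0, 0, 4, 5],
  [0, 0, 0, 0, 0, 0, 7, 6, 6, 6, 0, 0, 0, 0, 0, 0, 0, 0, 6, 6, 6, 6, 7, 0],
  [0, 0, 0, 0, 0, 0, 10, 0, 0, 0, 6, 6, 0, 0, 6, 0, 0, 0, 6, 6, 6, 6, 0, 10],
  [0, 0, 0, 0, 0, 0, 0, 10, 0, 0, 7, 0, 7, 0, 0, 7, 0, 0, 7, 7, 7, 0, 7, 10],
  [0, 0, 0, 0, 0, 0, 0, 0, 11, 0, 0, 8, 0, 8, 0, 0, 8, 0, 8, 8, 0, 8, 8, 11],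
  [0, 0, 0, 0, 0, 0, 0, 0, 0, 12, 0, 0, 9, 9, 0, 0, 0, 9, 9, 0, 9, 9, 9, 12],
  [0, 0, 0, 0, 0, 0, 0, 0, 0, 0, 0, 0, 0, 0, 15, 14, 14, 14, 0, 14, 14, 14, 15, 14]] : List (List ℕ)).getD r []).getD s 0)

/-- the roots `e_i - e_j` of nine `A₃`-subsystems of `D₄` (entry `4 i + j`) -/
def rhoL_D4 : List (List ℕ) :=
  [[0, 0, 1, 2, 23, 0, 14, 15, 22, 9, 0, 12, 21, 8, 11, 0], [0, 0, 1, 3, 23, 0, 14, 16, 22, 9, 0,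
    13, 20, 7, 10, 0], [0, 0, 1, 6, 23, 0, 14, 19, 22, 9, 0, 18, 17, 4, 5, 0], [0, 0, 2, 4, 23, 0,
    15, 17, 21, 8, 0, 13, 19, 6, 10, 0], [0, 0, 2, 7, 23, 0, 15, 20, 21, 8, 0, 18, 16, 3, 5, 0], [0,
    0, 3, 4, 23, 0, 16, 17, 20, 7, 0, 12, 19, 6, 11, 0], [0, 1, 2, 5, 22, 0, 12, 17, 21, 11, 0, 16,
    18, 6, 7, 0], [0, 1, 2, 10, 22, 0, 12, 20, 21, 11, 0, 19, 13, 3, 4, 0], [0, 1, 3, 5, 22, 0, 13,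
    17, 20, 10, 0, 15, 18, 6, 8, 0]]

/-- the signs of the root elements of the nine `A₃`-subsystems -/
def epsL_D4 : List (List ℤ) :=
  [[1, 1, 1, 1, 1, 1, 1, -1, 1, 1, 1, 1, 1, -1, 1, 1], [1, 1, 1, 1, 1, 1, 1, -1, 1, 1, 1, 1, 1,
    -1, 1, 1], [1, 1, 1, -1, 1, 1, 1, 1, 1, 1, 1, 1, -1, 1, 1, 1], [1, 1, -1, -1, 1, 1, 1, -1, -1,
    1, 1, 1, -1, -1, 1, 1], [1, 1, -1, 1, 1, 1, 1, 1, -1, 1, 1, 1, 1, 1, 1, 1], [1, 1, -1, -1, 1, 1,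
    1, -1, -1, 1, 1, 1, -1, -1, 1, 1], [1, 1, 1, 1, 1, 1, 1, 1, 1, 1, 1, 1, 1, 1, 1, 1], [1, 1, 1,
    -1, 1, 1, 1, 1, 1, 1, 1, 1, -1, 1, 1, 1], [1, 1, 1, 1, 1, 1, 1, 1, 1, 1, 1, 1, 1, 1, 1, 1]]

/-- for orthogonal roots `r`, `s`: a subsystem `e` and indices with `r = e_i - e_j`,
`s = e_k - e_l`, packed as `256 e + 64 i + 16 j + 4 k + l` -/
def witL_D4 : List (List ℕ) :=
  [[0, 0, 0, 0, 0, 542, 0, 0, 0, 0, 286, 30, 27, 283, 0, 0, 0, 0, 539, 0, 0, 0, 0, 0], [0, 0, 0,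
    0, 557, 0, 0, 301, 45, 0, 0, 0, 0, 0, 0, 39, 295, 0, 0, 551, 0, 0, 0, 0], [0, 0, 0, 1069, 0, 0,
    813, 0, 0, 57, 0, 0, 0, 0, 54, 0, 0, 807, 0, 0, 1063, 0, 0, 0], [0, 0, 1234, 0, 0, 0, 1325, 0,
    0, 313, 0, 0, 0, 0, 310, 0, 0, 1319, 0, 0, 0, 1240, 0, 0], [0, 722, 0, 0, 0, 0, 0, 1337, 825, 0,
    0, 0, 0, 0, 0, 822, 1334, 0, 0, 0, 0, 0, 728, 0], [737, 0, 0, 0, 0, 0, 0, 0, 0, 0, 2105, 1593,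
    1590, 2102, 0, 0, 0, 0, 0, 0, 0, 0, 0, 740], [0, 0, 978, 1490, 0, 0, 0, 0, 0, 569, 0, 0, 0, 0,
    566, 0, 0, 0, 0, 0, 1496, 984, 0, 0], [0, 466, 0, 0, 1427, 0, 0, 0, 1081, 0, 0, 0, 0, 0, 0,
    1078, 0, 0, 0, 1436, 0, 0, 472, 0], [0, 210, 0, 0, 915, 0, 0, 1171, 0, 0, 0, 0, 0, 0, 0, 0,
    1180, 0, 0, 924, 0, 0, 216, 0], [0, 0, 147, 403, 0, 0, 659, 0, 0, 0, 0, 0, 0, 0, 0, 0, 0, 668,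
    0, 0, 412, 156, 0, 0], [481, 0, 0, 0, 0, 2195, 0, 0, 0, 0, 0, 1849, 1846, 0, 0, 0, 0, 0, 2204,
    0, 0, 0, 0, 484], [225, 0, 0, 0, 0, 1683, 0, 0, 0, 0, 1939, 0, 0, 1948, 0, 0, 0, 0, 1692, 0, 0,
    0, 0, 228], [177, 0, 0, 0, 0, 1635, 0, 0, 0, 0, 1891, 0, 0, 1900, 0, 0, 0, 0, 1644, 0, 0, 0, 0,
    180], [433, 0, 0, 0, 0, 2147, 0, 0, 0, 0, 0, 1993, 1990, 0, 0, 0, 0, 0, 2156, 0, 0, 0, 0, 436],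
    [0, 0, 99, 355, 0, 0, 611, 0, 0, 0, 0, 0, 0, 0, 0, 0, 0, 620, 0, 0, 364, 108, 0, 0], [0, 114, 0,
    0, 867, 0, 0, 1123, 0, 0, 0, 0, 0, 0, 0, 0, 1132, 0, 0, 876, 0, 0, 120, 0], [0, 370, 0, 0, 1379,
    0, 0, 0, 1225, 0, 0, 0, 0, 0, 0, 1222, 0, 0, 0, 1388, 0, 0, 376, 0], [0, 0, 882, 1394, 0, 0, 0,
    0, 0, 713, 0, 0, 0, 0, 710, 0, 0, 0, 0, 0, 1400, 888, 0, 0], [689, 0, 0, 0, 0, 0, 0, 0, 0, 0,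
    2249, 1737, 1734, 2246, 0, 0, 0, 0, 0, 0, 0, 0, 0, 692], [0, 626, 0, 0, 0, 0, 0, 1481, 969, 0,
    0, 0, 0, 0, 0, 966, 1478, 0, 0, 0, 0, 0, 632, 0], [0, 0, 1138, 0, 0, 0, 1421, 0, 0, 457, 0, 0,
    0, 0, 454, 0, 0, 1415, 0, 0, 0, 1144, 0, 0], [0, 0, 0, 1165, 0, 0, 909, 0, 0, 201, 0, 0, 0, 0,
    198, 0, 0, 903, 0, 0, 1159, 0, 0, 0], [0, 0, 0, 0, 653, 0, 0, 397, 141, 0, 0, 0, 0, 0, 0, 135,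
    391, 0, 0, 647, 0, 0, 0, 0], [0, 0, 0, 0, 0, 590, 0, 0, 0, 0, 334, 78, 75, 331, 0, 0, 0, 0, 587,
    0, 0, 0, 0, 0]]

def rho_D4 (e : ℕ) (i j : Fin 4) : ℕ := (rhoL_D4.getD e []).getD (4 * i.val + j.val) 0

def eps_D4 (e : ℕ) (i j : Fin 4) : ℤ := (epsL_D4.getD e []).getD (4 * i.val + j.val) 1

def wit_D4 (r s : ℕ) : ℕ := (witL_D4.getD r []).getD s 0

/-- the index `x mod 4` -/
def fi (x : ℕ) : Fin 4 := ⟨x % 4, Nat.mod_lt _ (by norm_num)⟩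

set_option maxRecDepth 100000 in
theorem chkNeg_D4 : ∀ r < 24, chevD4.neg r = 24 - 1 - r := by decide +kernel

set_option maxRecDepth 100000 in
theorem rows_D4 : ∀ r < 24, RowOK2 24 chevD4.chainEntry (fun r => 24 - 1 - r) d1_D4 d2_D4 w_D4 r := by
  decide +kernel

set_option maxRecDepth 100000 in
theorem chkDec_D4 : ChkDec 24 chevD4.chainEntry (fun r => 24 - 1 - r) d1_D4 d2_D4 := by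
  decide +kernel

set_option maxRecDepth 100000 in
theorem chkDecCh_D4 : ChkDecCh 24 chevD4.chainEntry (fun r => 24 - 1 - r) d1_D4 d2_D4 := by
  decide +kernel

set_option maxRecDepth 100000 in
theorem embOK_D4 : ∀ e < 9, EmbOK 24 chevD4.chainEntry (fun r => 24 - 1 - r) (rho_D4 e) (eps_D4 e) := by
  decide +kernel

/-- the indices `i j k l` are pairwise distinct except possibly `i, j` resp. `k, l` ... all six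
inequalities -/
def Dist4 (i j k l : Fin 4) : Prop := i ≠ j ∧ k ≠ l ∧ i ≠ k ∧ i ≠ l ∧ j ≠ k ∧ j ≠ l

instance (i j k l : Fin 4) : Decidable (Dist4 i j k l) := by unfold Dist4; infer_instance

/-- the packed witness `x` proves that `r`, `s` lie in a common `A₃`-subsystem -/
def CovP (r s x : ℕ) : Prop :=
  x / 256 < 9 ∧ Dist4 (fi (x / 64)) (fi (x / 16)) (fi (x / 4)) (fi x) ∧
    rho_D4 (x / 256) (fi (x / 64)) (fi (x / 16)) = r ∧ rho_D4 (x / 256) (fi (x / 4)) (fi x) = s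

instance (r s x : ℕ) : Decidable (CovP r s x) := by unfold CovP; infer_instance

set_option maxRecDepth 100000 in
theorem cover_D4 : ∀ r < 24, ∀ s < 24, OrT 24 chevD4.chainEntry (fun r => 24 - 1 - r) r s →
    CovP r s (wit_D4 r s) := by
  decide +kernel

end Cfsg.Agent.Helper2.Stein2
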