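import Mathlib
import Cfsg.Agent.Helper2.Stein.Main
import Cfsg.Agent.Helper2.S2400.Tab2

set_option autoImplicit false
set_option linter.unusedSectionVars false
set_option linter.unusedSimpArgs false
set_option linter.unusedVariables false

/-! Central extensions of simply-laced Steinberg groups with orthogonal pairs of roots: from the
table checks to the splitting, given that lifts of orthogonal root elements commute. -/

namespace Cfsg.Agent.Helper2.Stein2

open Cfsg.Lie Cfsg.Agent.Helper6 Cfsg.Agent.Helper2.StPerf Cfsg.Agent.Helper2.Stb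
open Cfsg.Agent.Helper2.Stein
open scoped commutatorElement

variable {D : ChevalleyDatum} {K : Type*} [Field K]

/-- the table checks for a simply-laced datum, orthogonal pairs allowed -/
structure SLOK2 (D : ChevalleyDatum) (d1 d2 : ℕ → ℕ) : Prop where
  neg : ∀ r < D.nroots, D.neg r = D.nroots - 1 - r
  short : ChkShort D.nroots D.chainEntry
  symm : ChkSymm D.nroots D.chainEntry (fun r => D.nroots - 1 - r)
  cmdec : ChkCmDec2 D.nroots D.chainEntry (fun r => D.nroots - 1 - r)
  smcm : ChkSmCm D.nroots D.chainEntry (fun r => D.nroots - 1 - r)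
  dec : ChkDec D.nroots D.chainEntry (fun r => D.nroots - 1 - r) d1 d2
  link : ChkLink D.nroots D.chainEntry (fun r => D.nroots - 1 - r) d1 d2
  decch : ChkDecCh D.nroots D.chainEntry (fun r => D.nroots - 1 - r) d1 d2

section gside

variable {d1 d2 : ℕ → ℕ} (hOK : SLOK2 D d1 d2) {M : Type*} [Group M] {X : ℕ → K → M}
  (h : R12 D X)

include hOK h

theorem hcm_of_r12 {r s : ℕ} (hc : CmT D.nroots D.chainEntry (fun r => D.nroots - 1 - r) r s)
    (t u : K) : X r t * X s u = X s u * X r t := by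
  obtain ⟨hr, hs, hc⟩ := hc
  rcases hc with rfl | ⟨h1, h2⟩
  · rw [h.add r hr, h.add r hr, add_comm]
  · by_cases hrs : r = s
    · subst hrs
      rw [h.add r hr, h.add r hr, add_comm]
    · have hng : r ≠ D.neg s := by rw [hOK.neg s hs]; exact h1
      have hcomm := h.comm s hs r hr hrs hng (-u) (-t)
      have hct : D.commTerms s r = [] := by
        rw [commTerms_of_short (hOK.short s hs r hr).1 (hOK.short r hr s hs).1, h2]; rfl
      unfold ChevalleyDatum.commWord at hcomm
      rw [hct, List.map_nil, wordX_nil, ← X_inv h hr, ← X_inv h hs, inv_inv, inv_inv] at hcomm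
      have : X r t * X s u = (X r t * X s u * (X r t)⁻¹ * (X s u)⁻¹) * (X s u * X r t) := by group
      rw [this, hcomm, one_mul]

theorem hsm_of_r12 {r s k : ℕ} {ε : ℤ}
    (hs : SmT D.nroots D.chainEntry (fun r => D.nroots - 1 - r) r s k ε) (t u : K) :
    ⁅X r t, X s u⁆ = X k ((ε : K) * t * u) := by
  obtain ⟨hr, hs', hk, hε, hrs, hng, hce⟩ := smT_lt hs
  have hng' : r ≠ D.neg s := by rw [hOK.neg s hs']; exact hng
  have hcomm := h.comm s hs' r hr hrs hng' (-u) (-t)
  have hct : D.commTerms s r = [(k, -ε, 1, 1)] := by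
    rw [commTerms_of_short (hOK.short s hs' r hr).1 (hOK.short r hr s hs').1, hce]; rfl
  unfold ChevalleyDatum.commWord at hcomm
  rw [hct, List.map_cons, List.map_nil, wordX_cons, wordX_nil, mul_one, ← X_inv h hr,
    ← X_inv h hs', inv_inv, inv_inv] at hcomm
  rw [commutatorElement_def, hcomm]
  congr 1
  push_cast
  ring

end gside

/-- the relations for the lifted generators -/
theorem r12_of_lift {d1 d2 : ℕ → ℕ} (hOK : SLOK2 D d1 d2) {E : Type*} [Group E] {Y : ℕ → K → E}
    (hadd : ∀ r < D.nroots, ∀ t u : K, Y r t * Y r u = Y r (t + u))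
    (hcm : ∀ {r s : ℕ}, CmT D.nroots D.chainEntry (fun r => D.nroots - 1 - r) r s →
      r < D.nroots → s < D.nroots → ∀ t u : K, Y r t * Y s u = Y s u * Y r t)
    (hsm : ∀ {r s k : ℕ} {ε : ℤ}, SmT D.nroots D.chainEntry (fun r => D.nroots - 1 - r) r s k ε →
      ∀ t u : K, ⁅Y r t, Y s u⁆ = Y k ((ε : K) * t * u)) : R12 D Y := by
  have hzero : ∀ r < D.nroots, Y r 0 = 1 := by
    intro r hr
    have h1 := hadd r hr 0 0
    rw [add_zero] at h1
    exact (mul_eq_left (a := Y r 0)).1 h1
  have hinv : ∀ r < D.nroots, ∀ t : K, (Y r t)⁻¹ = Y r (-t) := by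
    intro r hr t
    apply inv_eq_of_mul_eq_one_right
    rw [hadd r hr, add_neg_cancel, hzero r hr]
  refine ⟨hadd, ?_⟩
  intro r hr s hs h1 h2 t u
  have h2' : s ≠ D.nroots - 1 - r := by rw [← hOK.neg r hr]; exact h2
  have hsh := hOK.short r hr s hs
  have hct := commTerms_of_short hsh.1 (hOK.short s hs r hr).1
  unfold ChevalleyDatum.commWord
  rw [hct]
  rcases hce : D.chainEntry r s with _ | ⟨p, _ | ⟨p', l⟩⟩
  · rw [List.map_nil, List.map_nil, wordX_nil]
    have hc : CmT D.nroots D.chainEntry (fun r => D.nroots - 1 - r) s r :=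
      ⟨hs, hr, Or.inr ⟨h2', hce⟩⟩
    have := hcm hc hs hr (-u) (-t)
    rw [hinv s hs, hinv r hr]
    calc Y s (-u) * Y r (-t) * Y s u * Y r t = (Y s (-u) * Y r (-t)) * (Y s u * Y r t) := by group
      _ = (Y r (-t) * Y s (-u)) * (Y s u * Y r t) := by rw [this]
      _ = Y r (-t) * (Y s (-u) * Y s u) * Y r t := by group
      _ = 1 := by rw [hadd s hs, neg_add_cancel, hzero s hs, mul_one, hadd r hr, neg_add_cancel,
          hzero r hr]
  · have hp := hsh.2 p (by rw [hce]; exact List.mem_singleton_self p)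
    have hS : SmT D.nroots D.chainEntry (fun r => D.nroots - 1 - r) s r p.1 (-p.2) :=
      smT_of hs hr h1 h2' hce hp.1 hp.2
    have := hsm hS (-u) (-t)
    rw [List.map_cons, List.map_nil, List.map_cons, List.map_nil, wordX_cons, wordX_nil, mul_one,
      hinv s hs, hinv r hr]
    rw [commutatorElement_def, hinv s hs, hinv r hr, neg_neg, neg_neg] at this
    rw [this]
    congr 1
    push_cast
    ring
  · rw [hce] at hsh
    simp at hsh

section split

variable {d1 d2 : ℕ → ℕ} (hOK : SLOK2 D d1 d2)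

include hOK

/-- every central extension of the group presented by (R1), (R2) splits, if the lifts of
orthogonal root elements commute -/
theorem exists_section_of_slok2 {E : Type*} [Group E] (ψ : E →* D.SteinbergCover K)
    (hψ : Function.Surjective ψ) (hc : ψ.ker ≤ Subgroup.center E)
    (hor : ∀ {r s : ℕ}, OrT D.nroots D.chainEntry (fun r => D.nroots - 1 - r) r s →
      ∀ {t u : K} {e1 e2 : E}, ψ e1 = pX D (D.steinbergRelsAB K) r t →
        ψ e2 = pX D (D.steinbergRelsAB K) s u → e1 * e2 = e2 * e1) :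
    ∃ σ : D.SteinbergCover K →* E, ψ.comp σ = MonoidHom.id _ := by
  have hsub : D.steinbergRelsAB K ⊆ D.steinbergRelsAB K := subset_rfl
  obtain ⟨X, hX⟩ : ∃ X : ℕ → K → D.SteinbergCover K, X = pX D (D.steinbergRelsAB K) := ⟨_, rfl⟩
  have h : R12 D X := by rw [hX]; exact r12_pX hsub
  have S := sys2_of_chk hOK.symm hOK.smcm hOK.dec hOK.link hOK.decch
  have hLC : ∀ {r s : ℕ}, CmT D.nroots D.chainEntry (fun r => D.nroots - 1 - r) r s →
      ∀ {t u : K} {e1 e2 : E}, ψ e1 = X r t → ψ e2 = X s u → e1 * e2 = e2 * e1 := by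
    intro r s hcm t u e1 e2 h1 h2
    rcases hOK.cmdec r hcm.1 s hcm.2.1 hcm with ⟨a, ha, ⟨p, hp, hpr⟩, c1, c2⟩ | ho
    · rw [mem_toList_iff] at hp
      have hsmT : SmT D.nroots D.chainEntry (fun r => D.nroots - 1 - r) a
          (lm D.chainEntry (fun r => D.nroots - 1 - r) r a) r p.2 := by
        unfold SmT; rw [hp, ← hpr]
      exact lifts_commute_of_dec X (smT_lt hsmT).2.2.2.1 (fun t u => hsm_of_r12 hOK h hsmT t u)
        (fun t u => hcm_of_r12 hOK h c1 t u) (fun t u => hcm_of_r12 hOK h c2 t u) ψ hψ hc h1 h2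
    · rw [hX] at h1 h2
      exact hor ho h1 h2
  obtain ⟨Y, hY1, hY2, hY3, hY4⟩ := exists_lift S X h.add (fun hc => hcm_of_r12 hOK h hc)
    (fun hs => hsm_of_r12 hOK h hs) ψ hψ hc hLC
  have hR : R12 D Y := r12_of_lift hOK hY2 hY3 hY4
  have hrels : ∀ g ∈ D.steinbergRelsAB K,
      FreeGroup.lift (fun a : Fin D.nroots × K => Y a.1.val a.2) g = 1 := by
    intro g hg
    rcases hg with ⟨r, t₁, t₂, hr, rfl⟩ | ⟨r, s, t, u, hr, hs, h1, h2, rfl⟩
    · rw [map_mul, map_mul, map_inv, lift_stX_gen Y hr, lift_stX_gen Y hr, lift_stX_gen Y hr,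
        mul_inv_eq_one]
      exact hR.add r hr t₁ t₂
    · have hw : ∀ p ∈ D.commWord K r s t u, p.1 < D.nroots := by
        intro p hp
        unfold ChevalleyDatum.commWord at hp
        rw [commTerms_of_short (hOK.short r hr s hs).1 (hOK.short s hs r hr).1, List.map_map,
          List.mem_map] at hp
        obtain ⟨q, hq, rfl⟩ := hp
        exact ((hOK.short r hr s hs).2 q hq).1
      rw [map_mul, map_mul, map_mul, map_mul, map_inv, map_inv, map_inv, lift_stX_gen Y hr,
        lift_stX_gen Y hs, lift_stWord_gen Y _ hw, mul_inv_eq_one]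
      exact hR.comm r hr s hs h1 h2 t u
  refine ⟨PresentedGroup.toGroup hrels, ?_⟩
  apply PresentedGroup.ext
  intro a
  rw [MonoidHom.comp_apply, PresentedGroup.toGroup.of, MonoidHom.id_apply, hY1 a.1.val a.1.isLt,
    hX]
  unfold pX ChevalleyDatum.stX
  rw [dif_pos a.1.isLt]
  rfl

end split

end Cfsg.Agent.Helper2.Stein2
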