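import Mathlib
import Cfsg.Agent.Helper2.S2400.Main2
import Cfsg.Agent.Helper2.S2400.TabD4
import Cfsg.Agent.Helper21.S2400A3EMB

set_option autoImplicit false
set_option linter.unusedSectionVars false
set_option linter.unusedVariables false

/-! S2400, type D₄: every central extension of the group presented by (R1), (R2) over a finite
field with at least three elements splits. -/

namespace Cfsg.Agent.Helper2.Stein2

open Cfsg.Lie Cfsg.Agent.Helper6 Cfsg.Agent.Helper2.StPerf Cfsg.Agent.Helper2.Stb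
open Cfsg.Agent.Helper2.Stein
open scoped commutatorElement

theorem slok2_D4 : SLOK2 chevD4 d1_D4 d2_D4 := by
  have hn : chevD4.nroots = 24 := rfl
  obtain ⟨c1, c2, c3, c4, c5⟩ := chks_of_rows2 rows_D4
  refine ⟨?_, ?_, ?_, ?_, ?_, ?_, ?_, ?_⟩
  · rw [hn]; exact chkNeg_D4
  · rw [hn]; exact c1
  · rw [hn]; exact c2
  · rw [hn]; exact c3
  · rw [hn]; exact c4
  · rw [hn]; exact chkDec_D4
  · rw [hn]; exact c5
  · rw [hn]; exact chkDecCh_D4

/-- type `D₄`, `|K| ≥ 3`: every central extension of the group presented by (R1), (R2) splits -/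
theorem split_D4 {K : Type*} [Field K] [Fintype K] (hK : 3 ≤ Fintype.card K) {E : Type*}
    [Group E] (ψ : E →* chevD4.SteinbergCover K) (hψ : Function.Surjective ψ)
    (hc : ψ.ker ≤ Subgroup.center E) :
    ∃ σ : chevD4.SteinbergCover K →* E, ψ.comp σ = MonoidHom.id _ := by
  have hn : chevD4.nroots = 24 := rfl
  have hsub : chevD4.steinbergRelsAB K ⊆ chevD4.steinbergRelsAB K := subset_rfl
  have h : R12 chevD4 (pX chevD4 (chevD4.steinbergRelsAB K)) := r12_pX hsub
  refine exists_section_of_slok2 slok2_D4 ψ hψ hc ?_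
  intro r s ho t u e1 e2 h1 h2
  have hr : r < 24 := ho.1
  have hs : s < 24 := ho.2.1
  obtain ⟨he, ⟨hij, hkl, hik, hil, hjk, hjl⟩, hr', hs'⟩ := cover_D4 r hr s hs ho
  rw [← hr'] at h1
  rw [← hs'] at h2
  exact Cfsg.Agent.S2400P.lifts_commute_of_emb hK (n := chevD4.nroots) h.add
    (fun hc => hcm_of_r12 slok2_D4 h hc) (fun hs => hsm_of_r12 slok2_D4 h hs) ψ hψ hc
    (embOK_D4 _ he) hij hkl hik hil hjk hjl h1 h2

end Cfsg.Agent.Helper2.Stein2
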