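import Mathlib
import Cfsg.Agent.Helper2.S2400.Defs
import Cfsg.Agent.Helper18.S2400CIRCF
import Cfsg.Agent.Helper11.StCenterA
import Cfsg.Prelude.Def_Steinberg

set_option autoImplicit false
set_option linter.unusedSectionVars false
set_option linter.unusedVariables false

/-! S2400 piece TORI: the Steinberg group of type `B₂` carries root and torus elements on the
circle. -/

namespace Cfsg.Agent.S2400P

open scoped commutatorElement
open Cfsg.Lie Cfsg.Agent.Helper6 Cfsg.Agent.Helper2.Stb Cfsg.Agent.Helper2.StPerf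
open Cfsg.Agent.Helper11.StCenter

namespace TORI

/-- the coefficients of the coroot of `ρ_k` on the fundamental coroots -/
def cor (k : ZMod 8) (i : ℕ) : ℤ := (chevB2.coroot.getD (kap k) #[]).getD i 0

theorem cor_cartan : ∀ k j : ZMod 8,
    cor k 0 * chevB2.cartan 0 (kap j) + cor k 1 * chevB2.cartan 1 (kap j) = cA k j := by
  decide +kernel

theorem E1_sq : ∀ k s : ZMod 8, E1 k s * E1 k s = 1 := by decide
theorem E3_sq : ∀ k s : ZMod 8, E3 k s * E3 k s = 1 := by decide
theorem E2_sq : ∀ k s : ZMod 8, E2 k s * E2 k s = 1 := by decide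
theorem E3_anti : ∀ k : ZMod 8, IsS k → E3 (k + 2) (-1) = - E3 k 1 := by decide

theorem isTab_B2 : IsTabulated chevB2 := by unfold IsTabulated; simp

end TORI

open TORI

theorem exists_b2c (K : Type*) [Field K] :
    ∃ S : B2C K (chevB2.SteinbergGroup K), (∀ k t, S.X k t = chevB2.stGen K (kap k) t) ∧
      S.e1 = (fun k s => ((E1 k s : ℤ) : K)) ∧ S.e2 = (fun k s => ((E2 k s : ℤ) : K)) ∧
      S.e3 = (fun k s => ((E3 k s : ℤ) : K)) := by
  have hD := isTab_B2
  have h12 : R12 chevB2 (XS chevB2 K) := r12_XS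
  have hrank : chevB2.rank = 2 := rfl
  have hcast : ∀ {a b : ℤ}, a * b = 1 → ((a : ℤ) : K) * ((b : ℤ) : K) = 1 := by
    intro a b h
    rw [← Int.cast_mul, h, Int.cast_one]
  have ht0 : ∀ (k : ZMod 8) (v : K), v ≠ 0 → ∀ i, v ^ cor k i ≠ 0 :=
    fun k v hv i => zpow_ne_zero _ hv
  have hmem : ∀ (k : ZMod 8) (v : K), v ≠ 0 →
      prodH (XS chevB2 K) chevB2 (fun i => v ^ cor k i) ∈ Hh (XS chevB2 K) chevB2 := by
    intro k v hv
    unfold prodH
    apply Subgroup.list_prod_mem
    intro g hg
    simp only [List.mem_map, List.mem_range] at hg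
    obtain ⟨i, hi, rfl⟩ := hg
    exact hH_mem_Hh _ hi (ht0 k v hv i)
  refine ⟨{ X := fun k t => XS chevB2 K (kap k) t
            H := fun k v => prodH (XS chevB2 K) chevB2 (fun i => v ^ cor k i)
            e1 := fun k s => ((E1 k s : ℤ) : K)
            e2 := fun k s => ((E2 k s : ℤ) : K)
            e3 := fun k s => ((E3 k s : ℤ) : K)
            e1_sq := fun k s => hcast (E1_sq k s)
            e2_sq := fun k s => hcast (E2_sq k s)
            e3_sq := fun k s => hcast (E3_sq k s)
            e213 := fun k s => by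
              show ((E2 k s : ℤ) : K) = ((E1 k s : ℤ) : K) * ((E3 k s : ℤ) : K)
              rw [← Int.cast_mul]; rfl
            e3_anti := fun k hk => by
              show ((E3 (k + 2) (-1) : ℤ) : K) = - ((E3 k 1 : ℤ) : K)
              rw [E3_anti k hk, Int.cast_neg]
            circ := circ_of_r12 h12
            conj := ?_
            hcomm := ?_ }, ?_, rfl, rfl, rfl⟩
  · intro k v hv j t
    have hlt : kap j < chevB2.nroots := kap_lt j
    have := prodH_conj h12 hD (piS hD) (piS_XS hD) (ht0 k v hv) hlt t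
    rw [this]
    congr 2
    rw [hrank, Finset.prod_range_succ, Finset.prod_range_one, ← zpow_mul, ← zpow_mul,
      ← zpow_add₀ hv, cor_cartan]
  · intro k v k' v' hv hv'
    exact Hh_comm h12 hD (piS hD) (piS_XS hD) (r3_XS_simple hD) _ (hmem k v hv) _ (hmem k' v' hv')
  · intro k t
    rfl

end Cfsg.Agent.S2400P
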