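import Mathlib
import Cfsg.Agent.Helper2.S2400.MainB2
import Cfsg.Agent.Helper2.S2400.MainD4
import Cfsg.Agent.Helper2.S2400.TORI
import Cfsg.Agent.Helper18.S2400CIRCB
import Cfsg.Agent.Helper21.S2400FIN
import Cfsg.Agent.Helper19.S2400FINITE
import Cfsg.Agent.Helper2.Stein.E6
import Cfsg.Agent.Helper2.Stein.E7
import Cfsg.Agent.Helper2.Stb.UnivMain
import Cfsg.Agent.S2397

set_option autoImplicit false
set_option linter.unusedSectionVars false
set_option linter.unusedVariables false

/-! S2400: the universal Steinberg groups of types E₆, E₇, B₂, D₄ are centrally closed. -/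

namespace Cfsg.Agent.S2400P

open scoped commutatorElement
open Cfsg.Lie Cfsg.Agent.Helper6 Cfsg.Agent.Helper2.Stb Cfsg.Agent.Helper2.StPerf

universe u

theorem commTerms_lt_B2 : ∀ r < 8, ∀ s < 8, ∀ c ∈ chevB2.commTerms r s, c.1 < 8 := by
  decide +kernel

/-- a family satisfying (R1), (R2) of type `B₂` gives a homomorphism from the group presented by
(R1), (R2) -/
theorem hom_of_r12_B2 {K : Type*} [Field K] {E : Type*} [Group E] {Y : ℕ → K → E}
    (hR : R12 chevB2 Y) :
    ∃ σ : chevB2.SteinbergCover K →* E, ∀ r < 8, ∀ t, σ (chevB2.scGen K r t) = Y r t := by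
  have hn : chevB2.nroots = 8 := rfl
  have hrels : ∀ g ∈ chevB2.steinbergRelsAB K,
      FreeGroup.lift (fun a : Fin chevB2.nroots × K => Y a.1.val a.2) g = 1 := by
    intro g hg
    rcases hg with ⟨r, t₁, t₂, hr, rfl⟩ | ⟨r, s, t, u, hr, hs, h1, h2, rfl⟩
    · rw [map_mul, map_mul, map_inv, lift_stX_gen Y hr, lift_stX_gen Y hr, lift_stX_gen Y hr,
        mul_inv_eq_one]
      exact hR.add r hr t₁ t₂
    · have hw : ∀ p ∈ chevB2.commWord K r s t u, p.1 < chevB2.nroots := by
        intro p hp
        obtain ⟨c, hc', e⟩ := commWord_fst_mem hp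
        rw [e]
        exact commTerms_lt_B2 r hr s hs c hc'
      rw [map_mul, map_mul, map_mul, map_mul, map_inv, map_inv, map_inv, lift_stX_gen Y hr,
        lift_stX_gen Y hs, lift_stWord_gen Y _ hw, mul_inv_eq_one]
      exact hR.comm r hr s hs h1 h2 t u
  refine ⟨PresentedGroup.toGroup hrels, ?_⟩
  intro r hr t
  unfold ChevalleyDatum.scGen
  have : PresentedGroup.toGroup hrels (PresentedGroup.mk (chevB2.steinbergRelsAB K)
      (chevB2.stX r t)) = FreeGroup.lift (fun a : Fin chevB2.nroots × K => Y a.1.val a.2)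
      (chevB2.stX r t) := rfl
  rw [this, lift_stX_gen Y (by rw [hn]; exact hr)]

/-- two homomorphisms from the Steinberg group which agree on the generators are equal -/
theorem steinbergGroup_hom_ext {D : ChevalleyDatum} {K : Type*} [Field K] {M : Type*} [Group M]
    {f g : D.SteinbergGroup K →* M}
    (h : ∀ r < D.nroots, ∀ t, f (D.stGen K r t) = g (D.stGen K r t)) : f = g := by
  apply PresentedGroup.ext
  intro a
  have := h a.1.val a.1.isLt a.2
  unfold ChevalleyDatum.stGen ChevalleyDatum.stX at this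
  rw [dif_pos a.1.isLt] at this
  exact this

/-- type `B₂`, `|K| ≥ 3`: every central extension of the Steinberg group splits -/
theorem split_B2 {K : Type*} [Field K] [Fintype K] (hK : 3 ≤ Fintype.card K) {E : Type*}
    [Group E] (ψ : E →* chevB2.SteinbergGroup K) (hψ : Function.Surjective ψ)
    (hc : ψ.ker ≤ Subgroup.center E) :
    ∃ σ : chevB2.SteinbergGroup K →* E, ∀ g, ψ (σ g) = g := by
  classical
  obtain ⟨S, hSX, he1, he2, he3⟩ := exists_b2c K
  obtain ⟨Y, hYmap, hYcirc⟩ := b2_lift hK S ψ hψ hc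
  rw [he1, he2, he3] at hYcirc
  have hR := r12_of_circ hYcirc
  obtain ⟨σ0, hσ0⟩ := hom_of_r12_B2 hR
  have hx : ∃ x : K, x ≠ 0 ∧ x ≠ 1 := by
    by_contra hcon
    push Not at hcon
    have hsub : (Finset.univ : Finset K) ⊆ {0, 1} := by
      intro v _
      by_cases hv : v = 0
      · simp [hv]
      · simp [hcon v hv]
    have := Finset.card_le_card hsub
    have h2 : ({0, 1} : Finset K).card ≤ 2 := Finset.card_le_two
    rw [Finset.card_univ] at this
    omega
  obtain ⟨e, he⟩ := Cfsg.Agent.S2397.result (K := K) chevB2 (by simp) (fun _ => hx)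
  refine ⟨σ0.comp e.symm.toMonoidHom, ?_⟩
  have hcomp : ψ.comp (σ0.comp e.symm.toMonoidHom) = MonoidHom.id _ := by
    apply steinbergGroup_hom_ext
    intro r hr t
    have hr8 : r < 8 := hr
    rw [MonoidHom.comp_apply, MonoidHom.comp_apply, MonoidHom.id_apply]
    have h1 : e.symm.toMonoidHom (chevB2.stGen K r t) = chevB2.scGen K r t := by
      show e.symm (chevB2.stGen K r t) = chevB2.scGen K r t
      rw [← he r t, MulEquiv.symm_apply_apply]
    rw [h1, hσ0 r hr8 t]
    simp only [if_pos hr8]
    rw [hYmap, hSX, kap_kapInv hr8]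
  intro g
  have := congrArg (fun f => f g) hcomp
  simpa using this

/-- from a splitting of the central extensions of the group presented by (R1), (R2) to a
splitting for the Steinberg group -/
theorem split_group_of_split_cover {D : ChevalleyDatum} {K : Type*} [Field K]
    (e : D.SteinbergCover K ≃* D.SteinbergGroup K) {E : Type*} [Group E]
    (hsplit : ∀ (ψ' : E →* D.SteinbergCover K), Function.Surjective ψ' →
      ψ'.ker ≤ Subgroup.center E → ∃ σ : D.SteinbergCover K →* E, ψ'.comp σ = MonoidHom.id _)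
    (ψ : E →* D.SteinbergGroup K) (hψ : Function.Surjective ψ)
    (hc : ψ.ker ≤ Subgroup.center E) : ∃ σ : D.SteinbergGroup K →* E, ∀ g, ψ (σ g) = g := by
  obtain ⟨σ0, hσ0⟩ := hsplit (e.symm.toMonoidHom.comp ψ)
    (e.symm.surjective.comp hψ) (by
      intro x hx
      apply hc
      rw [MonoidHom.mem_ker] at hx ⊢
      rw [MonoidHom.comp_apply] at hx
      have : e.symm (ψ x) = 1 := hx
      rw [← e.symm.map_one] at this
      exact e.symm.injective this)
  refine ⟨σ0.comp e.symm.toMonoidHom, ?_⟩
  intro g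
  have h1 := congrArg (fun f => f (e.symm g)) hσ0
  simp only [MonoidHom.comp_apply, MonoidHom.id_apply] at h1
  have h2 : e.symm (ψ (σ0 (e.symm g))) = e.symm g := h1
  rw [MonoidHom.comp_apply]
  exact e.symm.injective h2

end Cfsg.Agent.S2400P
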